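import Cfsg.Agent.Lib.Linear.ClassSp.Forms

/-!
# Character sums attached to a unipotent isometry

For an invariant form the sum of `ψ (B (N ^ (e - 1) x) x)` over the kernel of `N ^ e`, `N = g - 1`, is an
isometry invariant; on a single value it is a quadratic character sum, which changes sign with the square class.
-/

set_option autoImplicit false

universe u

namespace Cfsg.Lib.Linear.ClassSpP

open Module Cfsg.Lib.Linear

variable {F : Type u} [Field F]

/-- The sum of a character over the squares, scaled by `a`. -/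
noncomputable def sqSum [Fintype F] (ψ : AddChar F ℂ) (a : F) : ℂ := ∑ x : F, ψ (a * x ^ 2)

theorem sum_comp_sq [Fintype F] [DecidableEq F] (h2 : ringChar F ≠ 2) (f : F → ℂ) :
    ∑ x : F, f (x ^ 2) = ∑ y : F, ((quadraticChar F y : ℂ) + 1) * f y := by
  rw [← Finset.sum_fiberwise' Finset.univ (fun x : F => x ^ 2) f]
  refine Finset.sum_congr rfl fun y _ => ?_
  rw [Finset.sum_const, nsmul_eq_mul]
  congr 1
  have h := quadraticChar_card_sqrts h2 y
  rw [show ({x : F | x ^ 2 = y} : Set F).toFinset = Finset.univ.filter fun x : F => x ^ 2 = y by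
    ext; simp] at h
  exact_mod_cast congrArg (fun z : ℤ => (z : ℂ)) h

theorem sqSum_mul_nonsquare [Fintype F] (h2 : ringChar F ≠ 2) {ψ : AddChar F ℂ} (hψ : ψ.IsPrimitive) {δ a : F}
    (hδ : ¬ IsSquare δ) (ha : a ≠ 0) : sqSum ψ (δ * a) = -sqSum ψ a := by
  classical
  have hδ0 : δ ≠ 0 := fun h => hδ (by rw [h]; exact IsSquare.zero)
  have hχ : quadraticChar F δ = -1 := quadraticChar_neg_one_iff_not_isSquare.2 hδ
  rw [eq_neg_iff_add_eq_zero, sqSum, sqSum, sum_comp_sq h2 (fun y => ψ (δ * a * y)),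
    sum_comp_sq h2 (fun y => ψ (a * y))]
  conv_lhs => arg 2; rw [← Equiv.sum_comp (Equiv.mulLeft₀ δ hδ0)]
  rw [← Finset.sum_add_distrib, Finset.sum_congr rfl (g := fun y => 2 * ψ (y * (a * δ))) fun y _ => ?_,
    ← Finset.mul_sum, AddChar.sum_mulShift _ hψ, if_neg (mul_ne_zero ha hδ0), Nat.cast_zero, mul_zero]
  simp only [Equiv.mulLeft₀_apply, map_mul, hχ]
  rw [show δ * a * y = a * (δ * y) by ring, show y * (a * δ) = a * (δ * y) by ring]
  push_cast
  ring

theorem sqSum_ne_zero [Fintype F] (h2 : (2 : F) ≠ 0) {ψ : AddChar F ℂ} (hψ : ψ.IsPrimitive) {a : F} (ha : a ≠ 0) :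
    sqSum ψ a ≠ 0 := by
  classical
  refine left_ne_zero_of_mul (b := sqSum ψ (-a)) ?_
  have h : sqSum ψ a * sqSum ψ (-a) = Fintype.card F := by
    calc sqSum ψ a * sqSum ψ (-a) = ∑ x : F, ∑ t : F, ψ (a * x ^ 2) * ψ (-a * (x + t) ^ 2) := by
          rw [sqSum, sqSum, Finset.sum_mul]
          refine Finset.sum_congr rfl fun x _ => ?_
          rw [Finset.mul_sum, ← Equiv.sum_comp (Equiv.addLeft x)]
          rfl
      _ = ∑ t : F, ψ (-a * t ^ 2) * ∑ x : F, ψ (x * (-2 * a * t)) := by
          rw [Finset.sum_comm]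
          refine Finset.sum_congr rfl fun t _ => ?_
          rw [Finset.mul_sum]
          refine Finset.sum_congr rfl fun x _ => ?_
          rw [← AddChar.map_add_eq_mul, ← AddChar.map_add_eq_mul]
          congr 1
          ring
      _ = ∑ t : F, if t = 0 then (Fintype.card F : ℂ) else 0 := by
          refine Finset.sum_congr rfl fun t _ => ?_
          rw [AddChar.sum_mulShift _ hψ]
          by_cases ht : t = 0
          · simp [ht]
          · rw [if_neg (mul_ne_zero (mul_ne_zero (neg_ne_zero.2 h2) ha) ht), if_neg ht]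
            simp
      _ = _ := by simp
  rw [h]
  exact Nat.cast_ne_zero.2 Fintype.card_ne_zero

variable {V W : Type u} [AddCommGroup V] [Module F V] [AddCommGroup W] [Module F W]

/-- The invariant. -/
noncomputable def gsum (ψ : AddChar F ℂ) (g : End F V) (B : LinearMap.BilinForm F V) (e : ℕ) : ℂ :=
  ∑ᶠ x : LinearMap.ker ((g - 1) ^ e : End F V), ψ (B (((g - 1) ^ (e - 1) : End F V) x.1) x.1)

theorem gsum_eqv (ψ : AddChar F ℂ) {g : End F V} {B : LinearMap.BilinForm F V} {g' : End F W}
    {B' : LinearMap.BilinForm F W} (h : ClassSp.Eqv g B g' B') (e : ℕ) : gsum ψ g B e = gsum ψ g' B' e := by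
  obtain ⟨θ, h1, h2⟩ := h
  have hpow : ∀ (i : ℕ) x, θ (((g - 1) ^ i : End F V) x) = ((g' - 1) ^ i : End F W) (θ x) := fun i => by
    induction i with
    | zero => simp
    | succ i ih => intro x; simp [pow_succ', h1, ih]
  refine finsum_eq_of_bijective (fun x => ⟨θ x.1, LinearMap.mem_ker.2 (by rw [← hpow, LinearMap.mem_ker.1 x.2, map_zero])⟩)
    ⟨fun x y hxy => Subtype.ext (θ.injective (congrArg Subtype.val hxy)), fun y => ⟨⟨θ.symm y.1, LinearMap.mem_ker.2
      (θ.injective (by rw [hpow, θ.apply_symm_apply, LinearMap.mem_ker.1 y.2, map_zero]))⟩,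
      Subtype.ext (θ.apply_symm_apply _)⟩⟩ fun x => ?_
  rw [← hpow, h2]

end Cfsg.Lib.Linear.ClassSpP
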