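import Cfsg.Agent.Lib.Linear.ClassSpP.Model
import Cfsg.Agent.Lib.Linear.UnipotentClasses

/-!
# Classes of elements of order `p` of `Sp_{2m}(q)`, `q` a power of an odd prime `p`

Isometries with the same block sizes fall into at most `2 ^ k` classes by the bound on invariant forms, `k` the
number of even sizes, and the models give `2 ^ k` classes told apart by the character sums.
-/

set_option autoImplicit false

universe u

namespace Cfsg.Lib.Linear.ClassSpP

open Module Polynomial Cfsg.Lib Cfsg.Lib.Linear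
open Cfsg.Lib.Linear.JordanForms (Mdl UU gbas)

variable {F : Type u} [Field F]
variable {V W : Type u} [AddCommGroup V] [Module F V] [AddCommGroup W] [Module F W]

/-- `g - 1` has blocks of the sizes in `s`. -/
structure HasType (p : ℕ) (g : End F V) (s : Multiset ℕ) : Prop where
  dim : finrank F V = s.sum
  nil : (g - 1) ^ p = 0
  rk : ∀ i, ClassSp.rk g ((X - C (1 : F)) ^ i) = (s.map fun a => a - i).sum

theorem pow_eq_one_iff' {p : ℕ} [Fact p.Prime] [CharP F p] (g : End F V) : g ^ p = 1 ↔ (g - 1) ^ p = 0 := by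
  haveI : ExpChar F[X] p := ExpChar.prime Fact.out
  rw [← aeval_X_sub_one g p, sub_pow_expChar, map_sub, map_pow, map_pow, aeval_X, aeval_C, map_one, one_pow,
    sub_eq_zero]

theorem rk_of_coprime [FiniteDimensional F V] {g : End F V} {N : ℕ} (hg : (g - 1) ^ N = 0) {Y : F[X]}
    (hY : IsCoprime Y ((X - C (1 : F)) ^ N)) : ClassSp.rk g Y = finrank F V := by
  obtain ⟨a, b, hab⟩ := hY
  rw [ClassSp.rk, LinearMap.range_eq_top.2 fun x => ⟨aeval g a x, ?_⟩, finrank_top]
  calc aeval g Y (aeval g a x) = aeval g (a * Y + b * (X - C (1 : F)) ^ N) x := by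
        rw [map_add, map_mul (aeval g) b, aeval_X_sub_one, hg, mul_zero, add_zero, ← ClassSp.aeval_mul_apply, mul_comm]
    _ = x := by rw [hab, map_one, End.one_apply]

theorem HasType.exists_equiv [FiniteDimensional F V] [FiniteDimensional F W] {p : ℕ} {g : End F V} {g' : End F W}
    {s : Multiset ℕ} (h : HasType p g s) (h' : HasType p g' s) : ∃ θ : V ≃ₗ[F] W, ∀ x, θ (g x) = g' (θ x) := by
  refine ClassSp.exists_equiv_of_rk (h.dim.trans h'.dim.symm) fun Y hY hYi k => ?_
  by_cases hY1 : Y = X - C (1 : F)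
  · rw [hY1, h.rk, h'.rk]
  · have hco : IsCoprime (Y ^ k) ((X - C (1 : F)) ^ p) := by
      refine (IsCoprime.pow ?_)
      exact hYi.coprime_iff_not_dvd.2 fun hd => hY1 (eq_of_monic_of_associated hY (monic_X_sub_C 1)
        (hYi.associated_of_dvd (irreducible_X_sub_C 1) hd))
    rw [rk_of_coprime h.nil hco, rk_of_coprime h'.nil hco, h.dim, h'.dim]

theorem HasType.mult_one {p : ℕ} {g : End F V} {s : Multiset ℕ} (h : HasType p g s) {j : ℕ} (hj : 1 ≤ j) :
    ClassSp.mult g 1 j = (s.count j : ℤ) := by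
  have key : (s.map fun a => a - (j - 1)).sum + (s.map fun a => a - (j + 1)).sum =
      2 * (s.map fun a => a - j).sum + s.count j := by
    clear h
    induction s using Multiset.induction_on with
    | empty => simp
    | cons a s ih =>
      simp only [Multiset.map_cons, Multiset.sum_cons, Multiset.count_cons]
      split_ifs <;> omega
  rw [ClassSp.mult, h.rk, h.rk, h.rk]
  omega

theorem HasType.mult_neg_one [FiniteDimensional F V] (h2 : (2 : F) ≠ 0) {p : ℕ} {g : End F V} {s : Multiset ℕ}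
    (h : HasType p g s) (j : ℕ) : ClassSp.mult g (-1) j = 0 := by
  have hco : ∀ i, IsCoprime ((X - C (-1 : F)) ^ i) ((X - C (1 : F)) ^ p) := fun i =>
    (isCoprime_X_sub_C_of_isUnit_sub (isUnit_iff_ne_zero.2 fun e => h2 (by linear_combination -e))).pow
  rw [ClassSp.mult, rk_of_coprime h.nil (hco _), rk_of_coprime h.nil (hco _), rk_of_coprime h.nil (hco _)]
  ring

theorem HasType.unique {p : ℕ} {g : End F V} {g' : End F W} {s s' : Multiset ℕ} (hs : ∀ a ∈ s, 0 < a)
    (hs' : ∀ a ∈ s', 0 < a) (h : HasType p g s) (h' : HasType p g' s') (θ : V ≃ₗ[F] W)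
    (hθ : ∀ x, θ (g x) = g' (θ x)) : s = s' := by
  refine Multiset.ext.2 fun j => ?_
  rcases Nat.eq_zero_or_pos j with rfl | hj
  · rw [Multiset.count_eq_zero.2 fun e => (hs 0 e).false, Multiset.count_eq_zero.2 fun e => (hs' 0 e).false]
  · have e1 := h.mult_one hj
    rw [ClassSp.mult_equiv θ hθ, h'.mult_one hj] at e1
    exact_mod_cast e1.symm

theorem exists_hasType [Fintype F] [FiniteDimensional F V] (p : ℕ) (g : End F V) (hg : (g - 1) ^ p = 0) {n : ℕ}
    (hn : finrank F V = n) : ∃ μ : Nat.Partition n, (∀ a ∈ μ.parts, a ≤ p) ∧ HasType p g μ.parts := by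
  classical
  let b : (Fin n → F) ≃ₗ[F] V := (Module.finBasisOfFinrankEq F V hn).equivFun.symm
  set M := LinearMap.toMatrix' (b.symm.toLinearMap ∘ₗ g ∘ₗ b.toLinearMap) with hM
  have hbu : ∀ x, b.symm (g x) = Matrix.toLin' M (b.symm x) := fun x => by simp [hM]
  have hnil : (M - 1) ^ p = 0 := by
    refine (Matrix.toLinAlgEquiv' (R := F) (n := Fin n)).injective (LinearMap.ext fun x => ?_)
    rw [map_zero, map_pow, map_sub, map_one, LinearMap.zero_apply]
    obtain ⟨y, rfl⟩ := b.symm.surjective x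
    have key : ∀ i, b.symm (((g - 1) ^ i : End F V) y) =
        ((Matrix.toLinAlgEquiv' M - 1) ^ i : End F (Fin n → F)) (b.symm y) := fun i => by
      induction i with
      | zero => simp
      | succ i ih =>
        rw [pow_succ', pow_succ', End.mul_apply, End.mul_apply, LinearMap.sub_apply, LinearMap.sub_apply,
          End.one_apply, End.one_apply, map_sub, ih, hbu, ih]
        rfl
    rw [← key, hg, LinearMap.zero_apply, map_zero]
  obtain ⟨μ, hμ, ι, hι, e, he, hmap, hform⟩ :=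
    Cfsg.Agent.Lib.Linear.UnipotentClasses.exists_type p hnil
  refine ⟨μ, hμ, hn.trans μ.parts_sum.symm, hg, fun i => ?_⟩
  rw [ClassSp.rk_equiv b.symm (g' := Matrix.toLin' M) hbu, ClassSp.rk,
    show aeval (Matrix.toLin' M) ((X - C (1 : F)) ^ i) = (aeval M ((X - C (1 : F)) ^ i)).mulVecLin from
      aeval_algHom_apply (Matrix.toLinAlgEquiv' (R := F) (n := Fin n)).toAlgHom M _,
    ClassTuples.finrank_range_aeval (fun _ => (monic_X_sub_C (1 : F)).pow _) hform, ← hmap, Multiset.map_map]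
  refine Finset.sum_congr rfl fun j _ => ?_
  rw [ClassTuples.finrank_range_same _ (monic_X_sub_C (1 : F)), natDegree_X_sub_C, mul_one]
  rfl

theorem exists_isometry [FiniteDimensional F V] [FiniteDimensional F W] {B : LinearMap.BilinForm F V}
    {S : LinearMap.BilinForm F W} (hA : B.IsAlt) (hB : ∀ x, x ≠ 0 → ∃ y, B x y ≠ 0) (hSA : S.IsAlt)
    (hS : ∀ x, x ≠ 0 → ∃ y, S x y ≠ 0) (hfr : finrank F V = finrank F W) :
    ∃ ψ : V ≃ₗ[F] W, ∀ x y, S (ψ x) (ψ y) = B x y := by
  let P : LinearMap.BilinForm F (V × W) := ClassSp.prodB B S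
  have hP : ∀ x y, P x y = B x.1 y.1 + S x.2 y.2 := fun x y => rfl
  have hPA : P.IsAlt := fun x => by rw [hP, hA.self_eq_zero, hSA.self_eq_zero, add_zero]
  let X' := LinearMap.range (LinearMap.inl F V W)
  let Y' := LinearMap.range (LinearMap.inr F V W)
  have hX : Symp.NondegOn P X' := by
    rintro _ ⟨x, rfl⟩ hx
    obtain ⟨y, hy⟩ := hB x fun h => hx (by rw [h, map_zero])
    exact ⟨_, ⟨y, rfl⟩, by simpa [hP] using hy⟩
  have hY : Symp.NondegOn P Y' := by
    rintro _ ⟨x, rfl⟩ hx
    obtain ⟨y, hy⟩ := hS x fun h => hx (by rw [h, map_zero])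
    exact ⟨_, ⟨y, rfl⟩, by simpa [hP] using hy⟩
  have hdim : finrank F X' ≤ finrank F Y' := by
    rw [LinearMap.finrank_range_of_inj LinearMap.inl_injective, LinearMap.finrank_range_of_inj LinearMap.inr_injective, hfr]
  obtain ⟨φ, hφY, hφ⟩ := Symp.exists_isometry_between hPA _ X' Y' le_rfl hX hY hdim
  let ψ : V →ₗ[F] W := (LinearMap.snd F _ _).comp (φ.comp (LinearMap.inl F V W).rangeRestrict)
  have hψB : ∀ x y, S (ψ x) (ψ y) = B x y := fun x y => by
    obtain ⟨a, ha⟩ := hφY ⟨_, x, rfl⟩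
    obtain ⟨b, hb⟩ := hφY ⟨_, y, rfl⟩
    have h := hφ ⟨_, x, rfl⟩ ⟨_, y, rfl⟩
    rw [← ha, ← hb, hP, hP] at h
    simp only [LinearMap.inr_apply, LinearMap.inl_apply, map_zero, zero_add, add_zero] at h
    show S (φ ⟨_, x, rfl⟩).2 (φ ⟨_, y, rfl⟩).2 = _
    rw [← ha, ← hb]
    exact h
  have hinj : Function.Injective ψ := by
    rw [← LinearMap.ker_eq_bot, LinearMap.ker_eq_bot']
    intro x hx
    by_contra h0
    obtain ⟨y, hy⟩ := hB x h0
    rw [← hψB, hx, map_zero, LinearMap.zero_apply] at hy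
    exact hy rfl
  exact ⟨LinearEquiv.ofBijective ψ
    ⟨hinj, (LinearMap.injective_iff_surjective_of_finrank_eq_finrank hfr).1 hinj⟩, hψB⟩

section Classes

variable [Fintype F] {p m : ℕ} [Fact p.Prime] [CharP F p]

/-- The endomorphism of a symplectic matrix. -/
noncomputable def endo (g : ↥(Matrix.symplecticGroup (Fin m) F)) : End F (Fin m ⊕ Fin m → F) :=
  Matrix.toLinAlgEquiv' g.1

omit [Fintype F] in
theorem endo_pow (g : ↥(Matrix.symplecticGroup (Fin m) F)) (k : ℕ) : endo (g ^ k) = endo g ^ k := by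
  rw [endo, endo, SubmonoidClass.coe_pow, map_pow]

omit [Fintype F] in
theorem endo_one : endo (1 : ↥(Matrix.symplecticGroup (Fin m) F)) = 1 := by
  rw [endo, OneMemClass.coe_one, map_one]

omit [Fintype F] in
theorem endo_injective : Function.Injective (endo (F := F) (m := m)) := fun g h e =>
  Subtype.ext (Matrix.toLinAlgEquiv'.injective e)

omit [Fintype F] in
theorem iform_endo (g : ↥(Matrix.symplecticGroup (Fin m) F)) :
    ClassSp.IForm (-1 : F) (endo g) (Symp.spB m F) := by
  refine ⟨(Symp.spB_nondegenerate m F).1, fun x y => ?_, fun x y => ?_⟩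
  · rw [neg_one_mul, LinearMap.IsAlt.neg (Symp.spB_isAlt m F) x y]
  · simp only [endo, Matrix.toLinAlgEquiv'_apply]
    exact (Symp.mem_symplecticGroup_iff g.1).1 g.2 x y

omit [Fintype F] in
theorem isConj_iff_eqv (g h : ↥(Matrix.symplecticGroup (Fin m) F)) :
    IsConj g h ↔ ClassSp.Eqv (endo g) (Symp.spB m F) (endo h) (Symp.spB m F) := by
  constructor
  · rw [isConj_iff]
    rintro ⟨c, rfl⟩
    have hcc : ∀ (x : Fin m ⊕ Fin m → F), endo c⁻¹ (endo c x) = x := fun x => by
      rw [endo, endo, ← End.mul_apply, ← map_mul, ← Submonoid.coe_mul, inv_mul_cancel, OneMemClass.coe_one, map_one,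
        End.one_apply]
    refine ⟨LinearEquiv.ofBijective (endo c) ⟨fun x y e => ?_, fun x => ⟨endo c⁻¹ x, ?_⟩⟩, fun x => ?_, fun x y => ?_⟩
    · rw [← hcc x, ← hcc y, e]
    · rw [endo, endo, ← End.mul_apply, ← map_mul, ← Submonoid.coe_mul, mul_inv_cancel, OneMemClass.coe_one, map_one,
        End.one_apply]
    · show endo c (endo g x) = endo (c * g * c⁻¹) (endo c x)
      conv_rhs => rw [endo, endo, ← End.mul_apply, ← map_mul, ← Submonoid.coe_mul, mul_assoc, inv_mul_cancel, mul_one,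
        Submonoid.coe_mul, map_mul]
      rfl
    · exact (iform_endo c).inv x y
  · rintro ⟨θ, h1, h2⟩
    let c : ↥(Matrix.symplecticGroup (Fin m) F) := ⟨LinearMap.toMatrix' θ.toLinearMap, by
      rw [Symp.mem_symplecticGroup_iff]
      intro u v
      simp only [LinearMap.toMatrix'_mulVec]
      exact h2 u v⟩
    have hc : endo c = θ.toLinearMap := Matrix.toLin'_toMatrix' _
    refine isConj_iff.2 ⟨c, mul_inv_eq_of_eq_mul (endo_injective ?_)⟩
    rw [endo, endo, Submonoid.coe_mul, Submonoid.coe_mul, map_mul, map_mul]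
    refine LinearMap.ext fun x => ?_
    show endo c (endo g x) = endo h (endo c x)
    rw [hc]
    exact h1 x

/-- Partitions of `2m` with parts at most `p` and odd parts of even multiplicity. -/
abbrev GoodPart (p m : ℕ) : Type :=
  {μ : Nat.Partition (2 * m) // (∀ a ∈ μ.parts, a ≤ p) ∧ ∀ j : ℕ, Odd j → Even (μ.parts.count j)}

noncomputable instance : Fintype (GoodPart p m) := Fintype.ofFinite _

/-- The even sizes. -/
noncomputable def evens (μ : GoodPart p m) : Finset ℕ := μ.1.parts.toFinset.filter fun j => Even j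

/-- Signed partitions. -/
abbrev Signed (p m : ℕ) : Type := Σ μ : GoodPart p m, {σ // σ ∈ (evens μ).powerset}

omit [Fintype F] in
theorem exists_elem (hp : p ≠ 2) {B : LinearMap.BilinForm F V} {g : End F V} [FiniteDimensional F V]
    (hg : (g - 1) ^ p = 0) (hB : ClassSp.IForm (-1 : F) g B) (hfr : finrank F V = 2 * m) :
    ∃ M : ↥(Matrix.symplecticGroup (Fin m) F), M ^ p = 1 ∧ ClassSp.Eqv g B (endo M) (Symp.spB m F) := by
  have h2 : (2 : F) ≠ 0 := fun h => hp ((Nat.prime_dvd_prime_iff_eq Fact.out Nat.prime_two).1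
    ((CharP.cast_eq_zero_iff F p 2).1 h))
  have hA : B.IsAlt := fun x => by
    have := hB.sym x x
    exact (mul_eq_zero.1 (show (2 : F) * B x x = 0 by linear_combination this)).resolve_left h2
  obtain ⟨ψ, hψ⟩ := exists_isometry hA (fun x hx => by
    by_contra h
    push Not at h
    exact hx (hB.sep x h)) (Symp.spB_isAlt m F) (fun x hx => by
    by_contra h
    push Not at h
    exact hx ((Symp.spB_nondegenerate m F).1 x h)) (by rw [hfr, Module.finrank_pi, Fintype.card_sum, Fintype.card_fin, two_mul])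
  let M : ↥(Matrix.symplecticGroup (Fin m) F) := ⟨LinearMap.toMatrix' (ψ.toLinearMap ∘ₗ g ∘ₗ ψ.symm.toLinearMap), by
    rw [Symp.mem_symplecticGroup_iff]
    intro x y
    simp only [LinearMap.toMatrix'_mulVec, LinearMap.comp_apply, LinearEquiv.coe_coe]
    rw [hψ, hB.inv, ← hψ, ψ.apply_symm_apply, ψ.apply_symm_apply]⟩
  have hM : ∀ x, endo M (ψ x) = ψ (g x) := fun x => by
    rw [show endo M = ψ.toLinearMap ∘ₗ g ∘ₗ ψ.symm.toLinearMap from Matrix.toLin'_toMatrix' _]
    simp
  refine ⟨M, endo_injective (LinearMap.ext fun x => ?_), ψ, fun x => (hM x).symm, hψ⟩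
  obtain ⟨y, rfl⟩ := ψ.surjective x
  have key : ∀ i, (endo M ^ i) (ψ y) = ψ ((g ^ i) y) := fun i => by
    induction i with
    | zero => simp
    | succ i ih => rw [pow_succ', End.mul_apply, ih, hM, pow_succ', End.mul_apply]
  rw [endo_pow, key, (pow_eq_one_iff' g).2 hg, endo_one, End.one_apply, End.one_apply]

/-- The signed partitions parametrise the classes of elements with `g ^ p = 1`. -/
theorem card_classes_pow_eq_one (hp : p ≠ 2) :
    Nat.card {C : ConjClasses ↥(Matrix.symplecticGroup (Fin m) F) // ∃ g, ConjClasses.mk g = C ∧ g ^ p = 1} =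
      ∑ μ : GoodPart p m, 2 ^ (evens μ).card := by
  classical
  have hp' : ringChar F ≠ 2 := by rwa [ringChar.eq F p]
  have h2 : (2 : F) ≠ 0 := Ring.two_ne_zero hp'
  obtain ⟨δ, hδ⟩ := FiniteField.exists_nonsquare hp'
  set ψ := AddChar.FiniteField.primitiveChar_to_Complex F
  have hψ : ψ.IsPrimitive := AddChar.FiniteField.primitiveChar_to_Complex_isPrimitive F
  have hparts : ∀ μ : GoodPart p m, ∃ (t : ℕ) (d : Fin t → ℕ),
      (Finset.univ : Finset (Fin t)).val.map d = μ.1.parts := fun μ =>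
    ⟨μ.1.parts.toList.length, μ.1.parts.toList.get, by
      rw [Fin.univ_val_map, List.ofFn_get]
      exact Multiset.coe_toList _⟩
  choose t d hd using hparts
  have hmem : ∀ μ k, d μ k ∈ μ.1.parts := fun μ k => hd μ ▸ Multiset.mem_map_of_mem _ (Finset.mem_univ k)
  have hD : ∀ μ, ∃ D : Dat F (t μ), D.d = d μ := fun μ =>
    exists_dat h2 (d μ) (fun k => (μ.1.parts_pos (hmem μ k)).ne') fun j hj => by
      have h := μ.2.2 j hj
      rw [← hd μ, Multiset.count_map] at h
      simpa [Finset.card_def, Finset.filter_val, eq_comm] using h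
  choose D hDd using hD
  haveI : ∀ μ, FiniteDimensional F (Mdl F (D μ).d) := fun μ => Module.Finite.of_basis (gbas _)
  have htype : ∀ μ, HasType p (UU (F := F) (D μ).d) μ.1.parts := fun μ => by
    refine ⟨?_, UU_sub_pow_eq_zero fun k => μ.2.1 _ (by rw [hDd]; exact hmem μ k), fun i => ?_⟩
    · rw [Module.finrank_eq_card_basis (gbas _), Fintype.card_sigma, hDd, ← hd μ]
      simp only [Fintype.card_fin]
      rfl
    · rw [rk_UU, hDd, ← hd μ, Multiset.map_map]
      rfl
  have hform : ∀ (x : Signed p m), ClassSp.IForm (-1 : F) (UU (D x.1).d) ((D x.1).form ((D x.1).scal δ x.2.1)) :=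
    fun x => Dat.iform _ _ fun k => by
      unfold Dat.scal
      split_ifs
      · exact fun h => hδ (h ▸ IsSquare.zero)
      · exact one_ne_zero
  have helem := fun x : Signed p m => exists_elem (m := m) hp (htype x.1).nil (hform x)
    ((htype x.1).dim.trans x.1.1.parts_sum)
  choose M hM hMe using helem
  have hinjS : ∀ μ (σ σ' : {σ // σ ∈ (evens μ).powerset}),
      ClassSp.Eqv (UU (D μ).d) ((D μ).form ((D μ).scal δ σ.1)) (UU (D μ).d) ((D μ).form ((D μ).scal δ σ'.1)) →
        σ = σ' := fun μ σ σ' h => by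
    have hev : ∀ σ : {σ // σ ∈ (evens μ).powerset}, ∀ e ∈ σ.1, Even e ∧ ∃ k, (D μ).d k = e := fun σ e he => by
      obtain ⟨he1, he2⟩ := Finset.mem_filter.1 (Finset.mem_powerset.1 σ.2 he)
      rw [Multiset.mem_toFinset, ← hd μ, Multiset.mem_map] at he1
      obtain ⟨k, -, hk⟩ := he1
      exact ⟨he2, k, by rw [hDd]; exact hk⟩
    exact Subtype.ext ((D μ).scal_inj h2 hψ hδ (hev σ) (hev σ') h)
  let Φ : Signed p m → {C : ConjClasses ↥(Matrix.symplecticGroup (Fin m) F) // ∃ g, ConjClasses.mk g = C ∧ g ^ p = 1} :=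
    fun x => ⟨ConjClasses.mk (M x), M x, rfl, hM x⟩
  rw [show (∑ μ : GoodPart p m, 2 ^ (evens μ).card) = Nat.card (Signed p m) by
    rw [Nat.card_sigma]
    exact Finset.sum_congr rfl fun μ _ => by rw [Nat.card_eq_finsetCard, Finset.card_powerset]]
  refine (Nat.card_eq_of_bijective Φ ⟨?_, ?_⟩).symm
  · rintro ⟨μ, σ⟩ ⟨μ', σ'⟩ h
    have h1 : IsConj (M ⟨μ, σ⟩) (M ⟨μ', σ'⟩) := ConjClasses.mk_eq_mk_iff_isConj.1 (congrArg Subtype.val h)
    have h3 := (hMe ⟨μ, σ⟩).trans (((isConj_iff_eqv _ _).1 h1).trans (hMe ⟨μ', σ'⟩).symm)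
    obtain ⟨θ, hθ, -⟩ := id h3
    obtain rfl : μ = μ' := Subtype.ext (Nat.Partition.ext ((htype μ).unique (fun a ha => μ.1.parts_pos ha)
      (fun a ha => μ'.1.parts_pos ha) (htype μ') θ hθ))
    rw [hinjS μ σ σ' h3]
  · rintro ⟨C, g, rfl, hg⟩
    have hg' : endo g ^ p = 1 := by rw [← endo_pow, hg, endo_one]
    have hfr : finrank F (Fin m ⊕ Fin m → F) = 2 * m := by
      rw [Module.finrank_pi, Fintype.card_sum, Fintype.card_fin, two_mul]
    obtain ⟨μ₀, hμ₀, hT⟩ := exists_hasType p (endo g) ((pow_eq_one_iff' _).1 hg') hfr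
    obtain ⟨hpar, k, hk, γ, hγ, -⟩ := ClassSp.bound (ε := (-1 : F)) h2 (by ring) (Fact.out : p.Prime).one_le
      (2 * m) (2 * m) _ (endo g) hfr le_rfl hg'
    let μ : GoodPart p m := ⟨μ₀, hμ₀, fun j hj => by
      have h := hpar ⟨_, iform_endo g⟩ 1 (one_mul 1) j hj.pos (by
        obtain ⟨r, rfl⟩ := hj
        rw [Nat.add_sub_cancel, pow_mul, neg_one_sq, one_pow, mul_one])
      rw [hT.mult_one hj.pos] at h
      exact Int.even_coe_nat _ |>.1 h⟩
    obtain ⟨η, hη⟩ := (htype μ).exists_equiv hT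
    have hev : ∀ σ : {σ // σ ∈ (evens μ).powerset}, ∃ i, ClassSp.Eqv (UU (D μ).d) ((D μ).form ((D μ).scal δ σ.1))
        (endo g) (γ i) := fun σ => by
      have he : ClassSp.Eqv (UU (D μ).d) ((D μ).form ((D μ).scal δ σ.1)) (endo g)
          (((D μ).form ((D μ).scal δ σ.1)).compl₁₂ η.symm.toLinearMap η.symm.toLinearMap) :=
        ⟨η, hη, fun x y => by simp⟩
      obtain ⟨i, hi⟩ := hγ _ ((hform ⟨μ, σ⟩).map he)
      exact ⟨i, he.trans hi⟩
    choose i hi using hev
    have hinj : Function.Injective i := fun σ σ' h => hinjS μ σ σ' ((hi σ).trans (h ▸ hi σ').symm)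
    have hle : (ClassSp.types (-1 : F) (2 * m) (endo g)).card ≤ (evens μ).card := by
      refine Finset.card_le_card_of_injOn Prod.snd (fun se hse => ?_) fun a ha b hb hab => ?_
      · obtain ⟨hs, ⟨he, -⟩, hsgn, hpos⟩ := ClassSp.mem_types.1 (Finset.mem_coe.1 hse)
        rcases hs with hs | hs <;> rw [hs] at hpos
        · rw [hT.mult_one he, Int.natCast_pos, Multiset.count_pos] at hpos
          refine Finset.mem_coe.2 (Finset.mem_filter.2 ⟨Multiset.mem_toFinset.2 hpos, ?_⟩)
          by_contra ho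
          obtain ⟨r, hr⟩ := Nat.not_even_iff_odd.1 ho
          rw [hr, Nat.add_sub_cancel, pow_mul, neg_one_sq, one_pow, mul_one] at hsgn
          exact h2 (by linear_combination -hsgn)
        · rw [hT.mult_neg_one h2] at hpos
          exact absurd hpos (lt_irrefl 0)
      · have hone : ∀ se ∈ ClassSp.types (-1 : F) (2 * m) (endo g), se.1 = 1 := fun se hse => by
          obtain ⟨hs, -, -, hpos⟩ := ClassSp.mem_types.1 hse
          refine hs.resolve_right fun h => ?_
          rw [h, hT.mult_neg_one h2] at hpos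
          exact lt_irrefl 0 hpos
        exact Prod.ext ((hone a ha).trans (hone b hb).symm) hab
    have hsurj : Function.Surjective i := by
      refine ((Fintype.bijective_iff_injective_and_card i).2 ⟨hinj, le_antisymm (Fintype.card_le_of_injective i hinj) ?_⟩).2
      rw [Fintype.card_fin, Fintype.card_coe, Finset.card_powerset]
      exact hk.trans (Nat.pow_le_pow_right two_pos hle)
    obtain ⟨j, hj⟩ := hγ _ (iform_endo g)
    obtain ⟨σ, rfl⟩ := hsurj j
    exact ⟨⟨μ, σ⟩, Subtype.ext (ConjClasses.mk_eq_mk_iff_isConj.2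
      ((isConj_iff_eqv _ _).2 ((hMe ⟨μ, σ⟩).symm.trans ((hi σ).trans hj.symm))))⟩

/-- Elements of order `p`: all signed partitions but the trivial one. -/
theorem card_classes_orderOf (hp : p ≠ 2) :
    Nat.card {C : ConjClasses ↥(Matrix.symplecticGroup (Fin m) F) // ∃ g, ConjClasses.mk g = C ∧ orderOf g = p} =
      (∑ μ : GoodPart p m, 2 ^ (evens μ).card) - 1 := by
  classical
  rw [← card_classes_pow_eq_one (F := F) (m := m) hp]
  set T : Set (ConjClasses ↥(Matrix.symplecticGroup (Fin m) F)) := {C | ∃ g, ConjClasses.mk g = C ∧ g ^ p = 1}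
  have heq : {C | ∃ g, ConjClasses.mk g = C ∧ orderOf g = p} = T \ {ConjClasses.mk 1} := by
    ext C
    constructor
    · rintro ⟨g, rfl, hg⟩
      refine ⟨⟨g, rfl, by rw [← hg, pow_orderOf_eq_one]⟩, fun h => ?_⟩
      have h1 : g = 1 := isConj_one_left.1 (ConjClasses.mk_eq_mk_iff_isConj.1 h)
      rw [h1, orderOf_one] at hg
      exact (Fact.out : p.Prime).one_lt.ne hg
    · rintro ⟨⟨g, rfl, hg⟩, hne⟩
      exact ⟨g, rfl, orderOf_eq_prime hg fun h => hne (by rw [h]; rfl)⟩
  show Nat.card ↥{C | ∃ g, ConjClasses.mk g = C ∧ orderOf g = p} = Nat.card ↥T - 1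
  rw [Nat.card_coe_set_eq, Nat.card_coe_set_eq, heq,
    Set.ncard_diff_singleton_of_mem (show ConjClasses.mk 1 ∈ T from ⟨1, rfl, one_pow p⟩)]

end Classes

end Cfsg.Lib.Linear.ClassSpP
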