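import Cfsg.Agent.Lib.Linear.ClassSpP.Gauss
import Cfsg.Agent.Lib.Linear.ClassSp.Main
import Cfsg.Agent.Lib.Linear.JordanForms.Main

/-!
# The models of unipotent isometries of an alternating form in odd characteristic

Blocks of even size carry their own form with a scalar, blocks of odd size are paired; the character sum at an
even size changes sign exactly when the product of the scalars of that size changes its square class.
-/

set_option autoImplicit false

universe u

namespace Cfsg.Lib.Linear.ClassSpP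

open Module Cfsg.Lib.Linear
open Cfsg.Lib.Linear.JordanForms (A gen uu vv st frm Mdl UU gbas bas castA ev)

variable {F : Type u} [Field F] {t : ℕ}

/-- Block sizes, a pairing of the odd ones and functionals on the even ones. -/
structure Dat (F : Type u) [Field F] (t : ℕ) where
  d : Fin t → ℕ
  hd : ∀ k, d k ≠ 0
  π : Fin t → Fin t
  hπ : Function.Involutive π
  hdπ : ∀ k, d (π k) = d k
  hfix : ∀ k, π k = k ↔ Even (d k)
  τ : (k : Fin t) → A F (d k) →ₗ[F] F
  hτ : ∀ k, τ k (gen ^ (d k - 1)) ≠ 0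
  hτs : ∀ k a, τ k (st a) = (-1) ^ (d k - 1) * τ k a

theorem exists_dat (h2 : (2 : F) ≠ 0) (d : Fin t → ℕ) (hd : ∀ k, d k ≠ 0)
    (hpar : ∀ j : ℕ, Odd j → Even (Finset.univ.filter (fun k : Fin t => d k = j)).card) :
    ∃ D : Dat F t, D.d = d := by
  classical
  obtain ⟨π, hπ, hdπ, hfix⟩ := JordanForms.exists_pairing (d := d) (fun j => Odd j) hpar
  choose τ hτ hτs using fun k => JordanForms.exists_tau (F := F) h2 (hd k)
  refine ⟨⟨d, hd, fun k => if Odd (d k) then π k else k, fun k => ?_, fun k => ?_, fun k => ?_, τ, hτ, hτs⟩, rfl⟩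
  · dsimp only
    by_cases h : Odd (d k)
    · rw [if_pos h, hdπ, if_pos h, hπ k]
    · simp only [if_neg h]
  · split_ifs
    · exact hdπ k
    · rfl
  · rw [← Nat.not_odd_iff_even]
    split_ifs with h
    · exact iff_of_false (fun e => hfix k e h) (fun hn => hn h)
    · exact iff_of_true rfl h

variable (D : Dat F t)

/-- The alternating form. -/
noncomputable def Dat.form (c : Fin t → F) : LinearMap.BilinForm F (Mdl F D.d) :=
  JordanForms.fixedPart D.π (fun k => c k • frm (D.τ k)) + JordanForms.pairPart D.π D.hd D.hdπ -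
    (JordanForms.pairPart D.π D.hd D.hdπ).flip

theorem Dat.iform (c : Fin t → F) (hc : ∀ k, c k ≠ 0) : ClassSp.IForm (-1 : F) (UU D.d) (D.form c) := by
  refine ⟨fun x hx => ?_, fun x y => ?_, fun x y => ?_⟩
  · by_contra h0
    obtain ⟨y, hy⟩ := JordanForms.nondeg D.π D.hd D.hdπ D.hπ (fun k => c k • frm (D.τ k)) (fun k _ a ha => by
      obtain ⟨b, hb⟩ := JordanForms.frm_nondeg (D.τ k) (D.hτ k) ha
      exact ⟨b, by simpa using And.intro (hc k) hb⟩) (ε := -1) (neg_ne_zero.2 one_ne_zero) h0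
    exact hy (by simpa [Dat.form, sub_eq_add_neg] using hx y)
  · simp only [Dat.form, LinearMap.sub_apply, LinearMap.add_apply, LinearMap.BilinForm.flip_apply,
      JordanForms.fixedPart_apply]
    have h : ∀ k ∈ Finset.univ.filter (fun k => D.π k = k),
        (c k • frm (D.τ k)) (y k) (x k) = -((c k • frm (D.τ k)) (x k) (y k)) := fun k hk => by
      have hev := (D.hfix k).1 (Finset.mem_filter.1 hk).2
      have hodd : Odd (D.d k - 1) := by
        obtain ⟨r, hr⟩ := hev
        have := D.hd k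
        exact ⟨r - 1, by omega⟩
      simp only [LinearMap.smul_apply, smul_eq_mul, JordanForms.frm_apply]
      rw [show y k * st (x k) = st (x k * st (y k)) by rw [map_mul, JordanForms.st_st, mul_comm], D.hτs,
        hodd.neg_one_pow]
      ring
    rw [Finset.sum_congr rfl h, Finset.sum_neg_distrib]
    ring
  · simp only [Dat.form, LinearMap.sub_apply, LinearMap.add_apply, LinearMap.BilinForm.flip_apply,
      JordanForms.pairPart_UU]
    rw [JordanForms.fixedPart_UU D.π _ fun k _ a b => by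
      simp only [LinearMap.smul_apply, JordanForms.frm_uu]]

theorem UU_sub_pow_eq_zero {d : Fin t → ℕ} {N : ℕ} (h : ∀ k, d k ≤ N) : ((UU d - 1) ^ N : End F (Mdl F d)) = 0 :=
  LinearMap.ext fun x => funext fun k => by
    rw [JordanForms.UU_pow_apply, JordanForms.gen_pow_of_le (h k), zero_mul]
    rfl

theorem aeval_X_sub_one {V : Type u} [AddCommGroup V] [Module F V] (g : End F V) (i : ℕ) :
    Polynomial.aeval g ((Polynomial.X - Polynomial.C (1 : F)) ^ i) = (g - 1) ^ i := by
  rw [map_pow, map_sub, Polynomial.aeval_X, Polynomial.aeval_C, map_one]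

theorem rk_UU (d : Fin t → ℕ) (i : ℕ) :
    ClassSp.rk (UU (F := F) d) ((Polynomial.X - Polynomial.C (1 : F)) ^ i) = ∑ k, (d k - i) := by
  classical
  rw [ClassSp.rk, aeval_X_sub_one, ← JordanForms.rank_jordan_pow (F := F) d i,
    Matrix.rank_eq_finrank_range_toLin _ (gbas d) (gbas d)]
  have h1 : Matrix.toLinAlgEquiv (gbas d) (((Cfsg.jordanTypeMatrix d F :
      Matrix ((k : Fin t) × Fin (d k)) ((k : Fin t) × Fin (d k)) F) - 1) ^ i) = ((UU d - 1) ^ i : End F (Mdl F d)) := by
    rw [map_pow, map_sub, map_one, ← JordanForms.toMatrix_UU]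
    congr 2
    exact Matrix.toLin_toMatrix _ _ _
  exact (congrArg (fun f : End F (Mdl F d) => finrank F (LinearMap.range f)) h1).symm

theorem castA_gen {a b : ℕ} (h : a = b) : castA (F := F) h gen = gen := by subst h; rfl

section Block

variable {n : ℕ}

theorem exists_gen_mul {e : ℕ} (hen : e ≤ n) {a : A F n} (h : gen ^ e * a = 0) : ∃ y, a = gen ^ (n - e) * y := by
  obtain ⟨f, rfl⟩ := AdjoinRoot.mk_surjective a
  rw [gen, ← AdjoinRoot.mk_X, ← map_pow, ← map_mul, AdjoinRoot.mk_eq_zero] at h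
  have hn : (Polynomial.X : Polynomial F) ^ n = Polynomial.X ^ e * Polynomial.X ^ (n - e) := by
    rw [← pow_add, Nat.add_sub_cancel' hen]
  obtain ⟨k, hk⟩ := (mul_dvd_mul_iff_left (pow_ne_zero e Polynomial.X_ne_zero)).1 (hn ▸ h)
  exact ⟨AdjoinRoot.mk _ k, by rw [hk, map_mul, map_pow, AdjoinRoot.mk_X]; rfl⟩

theorem kills {e : ℕ} (hne : n ≠ e) {a b : A F n} (ha : gen ^ e * a = 0) (hb : gen ^ e * b = 0) :
    gen ^ (e - 1) * a * b = 0 := by
  rcases Nat.lt_or_gt_of_ne hne with h | h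
  · rw [JordanForms.gen_pow_of_le (by omega : n ≤ e - 1), zero_mul, zero_mul]
  · obtain ⟨y, rfl⟩ := exists_gen_mul h.le ha
    obtain ⟨z, rfl⟩ := exists_gen_mul h.le hb
    rw [show (gen : A F n) ^ (e - 1) * (gen ^ (n - e) * y) * (gen ^ (n - e) * z) =
        gen ^ (e - 1 + (n - e) + (n - e)) * (y * z) by ring,
      JordanForms.gen_pow_of_le (by omega : n ≤ e - 1 + (n - e) + (n - e)), zero_mul]

theorem st_gen_pow (i : ℕ) : st ((gen : A F n) ^ i) = (-vv) ^ i * gen ^ i := by
  rw [map_pow, JordanForms.st_gen, ← mul_pow]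
  congr 1
  ring

theorem st_kill {e : ℕ} {a : A F n} (ha : gen ^ e * a = 0) : gen ^ e * st a = 0 := by
  have h := congrArg st ha
  rw [map_mul, map_zero, st_gen_pow, mul_assoc] at h
  have h2 := congrArg (fun z => (-uu : A F n) ^ e * z) h
  simp only [mul_zero, ← mul_assoc, ← mul_pow, neg_mul_neg, JordanForms.uu_mul_vv, one_pow, one_mul] at h2
  exact h2

end Block

section Sum

variable [Fintype F]

/-- The value on one block. -/
noncomputable def Dat.q (c : F) (e : ℕ) (k : Fin t) (a : A F (D.d k)) : F :=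
  if D.π k = k then c * D.τ k (gen ^ (e - 1) * a * st a) else 0

theorem Dat.form_diag (c : Fin t → F) {e : ℕ} (he : Even e) {x : Mdl F D.d}
    (hx : ((UU D.d - 1) ^ e : End F (Mdl F D.d)) x = 0) :
    D.form c (((UU D.d - 1) ^ (e - 1) : End F (Mdl F D.d)) x) x = ∑ k, D.q (c k) e k (x k) := by
  classical
  have hk : ∀ k, gen ^ e * x k = 0 := fun k => by
    have := congrFun hx k
    rwa [JordanForms.UU_pow_apply] at this
  have hne : ∀ k, D.π k ≠ k → D.d k ≠ e := fun k h heq => h ((D.hfix k).2 (heq ▸ he))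
  have hc : ∀ k, gen ^ e * castA (D.hdπ k) (x (D.π k)) = 0 := fun k => by
    have h := congrArg (castA (F := F) (D.hdπ k)) (hk (D.π k))
    rwa [map_mul, map_pow, castA_gen, map_zero] at h
  simp only [Dat.form, LinearMap.sub_apply, LinearMap.add_apply, LinearMap.BilinForm.flip_apply,
    JordanForms.fixedPart_apply, JordanForms.pairPart_apply, JordanForms.UU_pow_apply, LinearMap.smul_apply,
    smul_eq_mul, JordanForms.frm_apply]
  rw [Finset.sum_eq_zero (s := Finset.univ.filter fun k => k < D.π k) fun k hmem => by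
      rw [kills (hne k (Finset.mem_filter.1 hmem).2.ne') (hk k) (st_kill (hc k)), map_zero],
    Finset.sum_eq_zero (s := Finset.univ.filter fun k => k < D.π k) fun k hmem => by
      rw [map_mul (castA (D.hdπ k)), map_pow, castA_gen, map_mul (st (F := F) (d := D.d k)), st_gen_pow,
        show x k * ((-vv) ^ (e - 1) * gen ^ (e - 1) * st (castA (D.hdπ k) (x (D.π k)))) =
          (-vv) ^ (e - 1) * (gen ^ (e - 1) * x k * st (castA (D.hdπ k) (x (D.π k)))) by ring,
        kills (hne k (Finset.mem_filter.1 hmem).2.ne') (hk k) (st_kill (hc k)), mul_zero, map_zero],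
    add_zero, sub_zero, Finset.sum_filter]
  rfl

/-- The factor of one block. -/
noncomputable def Dat.fac (ψ : AddChar F ℂ) (c : F) (e : ℕ) (k : Fin t) : ℂ :=
  ∑ᶠ a : {a : A F (D.d k) // gen ^ e * a = 0}, ψ (D.q c e k a.1)

set_option maxHeartbeats 1000000 in
theorem Dat.gsum_form (ψ : AddChar F ℂ) (c : Fin t → F) {e : ℕ} (he : Even e) :
    gsum ψ (UU D.d) (D.form c) e = ∏ k, D.fac ψ (c k) e k := by
  classical
  haveI : ∀ k, Finite (A F (D.d k)) := fun k =>
    haveI : Module.Finite F (A F (D.d k)) := Module.Finite.of_basis bas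
    Module.finite_of_finite F
  haveI : ∀ k, Fintype {a : A F (D.d k) // gen ^ e * a = 0} := fun k => Fintype.ofFinite _
  let E : ((k : Fin t) → {a : A F (D.d k) // gen ^ e * a = 0}) → LinearMap.ker ((UU D.d - 1) ^ e : End F (Mdl F D.d)) :=
    fun y => ⟨fun k => (y k).1, LinearMap.mem_ker.2 (funext fun k => by rw [JordanForms.UU_pow_apply]; exact (y k).2)⟩
  have hE : Function.Bijective E := ⟨fun y z h => funext fun k => Subtype.ext (congrFun (congrArg Subtype.val h) k),
    fun x => ⟨fun k => ⟨x.1 k, by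
      have := congrFun (LinearMap.mem_ker.1 x.2) k
      rwa [JordanForms.UU_pow_apply] at this⟩, rfl⟩⟩
  simp only [gsum, Dat.fac, finsum_eq_sum_of_fintype]
  rw [← finsum_eq_of_bijective E hE (f := fun y => ψ (∑ k, D.q (c k) e k (y k).1)) fun y =>
      (congrArg ψ (D.form_diag c he (LinearMap.mem_ker.1 (E y).2))).symm,
    finsum_eq_sum_of_fintype, Fintype.prod_sum]
  refine Finset.sum_congr rfl fun y _ => ?_
  induction (Finset.univ : Finset (Fin t)) using Finset.induction with
  | empty => simp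
  | insert a s ha ih => rw [Finset.sum_insert ha, Finset.prod_insert ha, AddChar.map_add_eq_mul, ih]

theorem Dat.fac_of_ne (ψ : AddChar F ℂ) {e : ℕ} {k : Fin t} (hne : D.d k ≠ e) (c : F) :
    D.fac ψ c e k = D.fac ψ 1 e k ∧ D.fac ψ c e k ≠ 0 := by
  classical
  haveI : Module.Finite F (A F (D.d k)) := Module.Finite.of_basis bas
  haveI : Finite (A F (D.d k)) := Module.finite_of_finite F
  haveI := Fintype.ofFinite {a : A F (D.d k) // gen ^ e * a = 0}
  have hq : ∀ (c : F) (a : {a : A F (D.d k) // gen ^ e * a = 0}), D.q c e k a.1 = 0 := fun c a => by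
    rw [Dat.q, kills hne a.2 (st_kill a.2), map_zero, mul_zero, ite_self]
  simp only [Dat.fac, finsum_eq_sum_of_fintype, hq, AddChar.map_zero_eq_one, Finset.sum_const, nsmul_eq_mul,
    mul_one, true_and]
  haveI : Nonempty {a : A F (D.d k) // gen ^ e * a = 0} := ⟨⟨0, mul_zero _⟩⟩
  rw [Finset.card_univ, Nat.cast_ne_zero]
  exact Fintype.card_ne_zero

theorem Dat.fac_of_eq (h2 : (2 : F) ≠ 0) {ψ : AddChar F ℂ} (hψ : ψ.IsPrimitive) {δ : F} (hδ : ¬ IsSquare δ) {e : ℕ}
    (he : Even e) {k : Fin t} (hke : D.d k = e) : D.fac ψ 1 e k ≠ 0 ∧ D.fac ψ δ e k = -D.fac ψ 1 e k := by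
  classical
  subst hke
  haveI : Module.Finite F (A F (D.d k)) := Module.Finite.of_basis bas
  haveI : Finite (A F (D.d k)) := Module.finite_of_finite F
  haveI := Fintype.ofFinite (A F (D.d k))
  set w : F := D.τ k (gen ^ (D.d k - 1))
  set f : A F (D.d k) →ₐ[F] F := ev (D.hd k)
  have hval : ∀ (c : F) a, D.q c (D.d k) k a = c * w * f a ^ 2 := fun c a => by
    rw [Dat.q, if_pos ((D.hfix k).2 he), mul_assoc, JordanForms.socle_mul (D.hd k), map_smul, map_mul,
      JordanForms.ev_st, smul_eq_mul]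
    ring
  have hsum : ∀ c : F, D.fac ψ c (D.d k) k =
      ((Finset.univ.filter fun a => f a = 0).card : ℂ) * sqSum ψ (c * w) := fun c => by
    haveI := Fintype.ofFinite {a : A F (D.d k) // gen ^ D.d k * a = 0}
    rw [Dat.fac, finsum_eq_sum_of_fintype, Fintype.sum_equiv
      (Equiv.subtypeUnivEquiv (fun a : A F (D.d k) => by rw [JordanForms.gen_pow_self, zero_mul]))
      (fun a => ψ (D.q c (D.d k) k a.1)) (fun a => ψ (D.q c (D.d k) k a)) fun a => rfl]
    simp only [hval]
    rw [← Finset.sum_fiberwise' Finset.univ f (fun s => ψ (c * w * s ^ 2)), sqSum, Finset.mul_sum]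
    refine Finset.sum_congr rfl fun s _ => ?_
    rw [Finset.sum_const, nsmul_eq_mul]
    congr 2
    have hf : f (AdjoinRoot.of (Polynomial.X ^ D.d k) s) = s := f.commutes s
    refine Finset.card_nbij' (fun a => a - algebraMap F _ s) (fun a => a + algebraMap F _ s) ?_ ?_ ?_ ?_ <;>
      intro a <;> simp +contextual [hf]
  have h2' : ringChar F ≠ 2 := fun h => h2 (by
    haveI := ringChar.charP F
    simpa [h] using CharP.cast_eq_zero F (ringChar F))
  have hw : w ≠ 0 := D.hτ k
  rw [hsum, hsum, one_mul, sqSum_mul_nonsquare h2' hψ hδ hw]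
  refine ⟨mul_ne_zero ?_ (sqSum_ne_zero h2 hψ hw), by ring⟩
  exact Nat.cast_ne_zero.2 (Finset.card_ne_zero.2 ⟨0, by simp⟩)

/-- The scalars given by a set of sizes. -/
noncomputable def Dat.scal (δ : F) (σ : Finset ℕ) (k : Fin t) : F :=
  if D.d k ∈ σ ∧ ∀ l < k, D.d l ≠ D.d k then δ else 1

theorem Dat.gsum_scal (h2 : (2 : F) ≠ 0) {ψ : AddChar F ℂ} (hψ : ψ.IsPrimitive) {δ : F} (hδ : ¬ IsSquare δ) (σ : Finset ℕ)
    {e : ℕ} (he : Even e) (hex : ∃ k, D.d k = e) :
    gsum ψ (UU D.d) (D.form (D.scal δ σ)) e = (if e ∈ σ then -1 else 1) * ∏ k, D.fac ψ 1 e k ∧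
      ∏ k, D.fac ψ 1 e k ≠ 0 := by
  classical
  have hne : ∀ k, D.fac ψ 1 e k ≠ 0 := fun k => by
    by_cases h : D.d k = e
    · exact (D.fac_of_eq h2 hψ hδ he h).1
    · exact (D.fac_of_ne ψ h 1).2
  refine ⟨?_, Finset.prod_ne_zero_iff.2 fun k _ => hne k⟩
  obtain ⟨k₀, hk₀, hmin⟩ := (Finset.univ.filter fun k => D.d k = e).exists_min_image id
    (by obtain ⟨k, hk⟩ := hex; exact ⟨k, by simpa using hk⟩)
  replace hk₀ : D.d k₀ = e := (Finset.mem_filter.1 hk₀).2
  have hstep : ∀ k, D.fac ψ (D.scal δ σ k) e k =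
      (if k = k₀ then (if e ∈ σ then -1 else 1) else 1) * D.fac ψ 1 e k := fun k => by
    by_cases hk : D.d k = e
    · by_cases h0 : k = k₀
      · subst h0
        rw [if_pos rfl, Dat.scal, hk]
        by_cases hσ : e ∈ σ
        · rw [if_pos hσ, if_pos ⟨hσ, fun l hl heq => hl.not_ge (hmin l (Finset.mem_filter.2 ⟨Finset.mem_univ _, heq⟩))⟩,
            (D.fac_of_eq h2 hψ hδ he hk).2, neg_one_mul]
        · rw [if_neg hσ, if_neg (fun h => hσ h.1), one_mul]
      · rw [if_neg h0, one_mul, Dat.scal, if_neg fun h =>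
          h.2 k₀ (lt_of_le_of_ne (hmin k (Finset.mem_filter.2 ⟨Finset.mem_univ _, hk⟩)) (Ne.symm h0)) (hk₀.trans hk.symm)]
    · rw [if_neg (fun h : k = k₀ => hk (by rw [h]; exact hk₀)), one_mul]
      exact (D.fac_of_ne ψ hk _).1
  rw [D.gsum_form ψ _ he, Finset.prod_congr rfl fun k _ => hstep k, Finset.prod_mul_distrib,
    Finset.prod_ite_eq' Finset.univ k₀ fun _ => (if e ∈ σ then (-1 : ℂ) else 1), if_pos (Finset.mem_univ _)]

theorem Dat.scal_inj (h2 : (2 : F) ≠ 0) {ψ : AddChar F ℂ} (hψ : ψ.IsPrimitive) {δ : F} (hδ : ¬ IsSquare δ)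
    {σ σ' : Finset ℕ} (hσ : ∀ e ∈ σ, Even e ∧ ∃ k, D.d k = e) (hσ' : ∀ e ∈ σ', Even e ∧ ∃ k, D.d k = e)
    (h : ClassSp.Eqv (UU D.d) (D.form (D.scal δ σ)) (UU D.d) (D.form (D.scal δ σ'))) : σ = σ' := by
  classical
  have key : ∀ e, Even e → (∃ k, D.d k = e) → (e ∈ σ ↔ e ∈ σ') := fun e he hex => by
    obtain ⟨h1, h0⟩ := D.gsum_scal h2 hψ hδ σ he hex
    have h1' := (D.gsum_scal h2 hψ hδ σ' he hex).1
    rw [gsum_eqv ψ h e, h1'] at h1
    have h3 := mul_right_cancel₀ h0 h1
    by_cases a : e ∈ σ <;> by_cases b : e ∈ σ' <;>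
      first
      | exact iff_of_true a b
      | exact iff_of_false a b
      | (rw [if_pos b, if_neg a] at h3; norm_num at h3)
      | (rw [if_neg b, if_pos a] at h3; norm_num at h3)
  exact Finset.ext fun e => ⟨fun he => (key e (hσ e he).1 (hσ e he).2).1 he,
    fun he => (key e (hσ' e he).1 (hσ' e he).2).2 he⟩

end Sum

end Cfsg.Lib.Linear.ClassSpP
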